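import Groth.Agent.FComplLib.Modules
import Groth.Agent.FComplLib.Spf
import Groth.Agent.S4652
import Groth.Agent.SeesawLib.Ranks
import Groth.Agent.QCohLib.Coherent
import Groth.Prelude.Def_FSch3

/-!
# Modules with free reductions
-/

set_option autoImplicit false
set_option linter.style.haveILetI false
universe u

open CategoryTheory CategoryTheory.Limits AlgebraicGeometry TensorProduct
open ProjFormLib (IsFrame)
open SeesawLib

namespace FComplFreeLib

section Algebra

variable {R : Type u} [CommRing R] {M : Type u} [AddCommGroup M] [Module R M]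

theorem levelEquiv {S : Type u} [CommRing S] [Algebra R S] (hs : Function.Surjective (algebraMap R S))
    {I : Ideal R} (hI : RingHom.ker (algebraMap R S) = I) {r : ℕ}
    (e : S ⊗[R] M ≃ₗ[S] (Fin r → S)) :
    Nonempty ((M ⧸ I • (⊤ : Submodule R M)) ≃ₗ[R] (Fin r → R ⧸ I)) := by
  let φ : (R ⧸ I) ≃ₐ[R] S :=
    (Ideal.quotientEquivAlgOfEq R hI.symm).trans
      (Ideal.quotientKerAlgEquivOfSurjective (f := Algebra.ofId R S) hs)
  exact ⟨((TensorProduct.quotTensorEquivQuotSMul M I).symm ≪≫ₗ
    TensorProduct.congr φ.toLinearEquiv (LinearEquiv.refl R M)) ≪≫ₗ e.restrictScalars R ≪≫ₗ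
      LinearEquiv.piCongrRight fun _ => φ.symm.toLinearEquiv⟩

/-- A finite module whose reductions modulo all powers of an ideal are free of a given rank is free. -/
theorem flat_of_levels [IsNoetherianRing R] [Module.Finite R M] (𝔞 : Ideal R)
    (h𝔞 : 𝔞 ≤ Ideal.jacobson ⊥) (r : ℕ)
    (h : ∀ n : ℕ, Nonempty ((M ⧸ 𝔞 ^ (n + 1) • (⊤ : Submodule R M)) ≃ₗ[R] (Fin r → R ⧸ 𝔞 ^ (n + 1)))) :
    Module.Flat R M := by
  classical
  let e' : ∀ n, (M ⧸ 𝔞 ^ (n + 1) • (⊤ : Submodule R M)) ≃ₗ[R] (Fin r → R ⧸ 𝔞 ^ (n + 1)) := fun n => (h n).some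
  choose m hm using fun i : Fin r => Submodule.mkQ_surjective (𝔞 ^ (0 + 1) • (⊤ : Submodule R M))
    ((e' 0).symm (Pi.single i 1))
  let φ : (Fin r → R) →ₗ[R] M := Fintype.linearCombination R m
  have hsurj : Function.Surjective φ := by
    rw [← LinearMap.range_eq_top, ← top_le_iff]
    refine Submodule.le_of_le_smul_of_le_jacobson_bot (I := 𝔞) Module.Finite.fg_top h𝔞 fun x _ => ?_
    choose c hc using fun i => Ideal.Quotient.mk_surjective (e' 0 (Submodule.mkQ _ x) i)
    have hx : Submodule.mkQ (𝔞 ^ (0 + 1) • (⊤ : Submodule R M)) (φ c) = Submodule.mkQ _ x := by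
      apply (e' 0).injective
      simp only [φ, Fintype.linearCombination_apply, map_sum, map_smul, hm, LinearEquiv.apply_symm_apply]
      funext j
      rw [Finset.sum_apply, Finset.sum_eq_single j (fun i _ hi => by simp [Pi.single_apply, hi.symm])
        (fun hj => absurd (Finset.mem_univ j) hj)]
      rw [Pi.smul_apply, Pi.single_eq_same, ← hc j, Algebra.smul_def, mul_one]
      rfl
    have h1 := (Submodule.Quotient.eq _).1 hx.symm
    rw [zero_add, pow_one] at h1
    rw [← add_sub_cancel (φ c) x]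
    exact Submodule.add_mem_sup ⟨c, rfl⟩ h1
  have hinj : Function.Injective φ := by
    refine (injective_iff_map_eq_zero φ).2 fun v hv => funext fun i => ?_
    have hmem : ∀ n, v i ∈ 𝔞 ^ (n + 1) := fun n => by
      let I := 𝔞 ^ (n + 1)
      let g : (Fin r → R) →ₗ[R] (Fin r → R ⧸ I) := (e' n).toLinearMap ∘ₗ Submodule.mkQ _ ∘ₗ φ
      have hgs : Function.Surjective g := (e' n).surjective.comp ((Submodule.mkQ_surjective _).comp hsurj)
      let Q : (Fin r → R) →ₗ[R] (Fin r → R ⧸ I) := LinearMap.pi fun j => Submodule.mkQ I ∘ₗ LinearMap.proj j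
      have hQ : LinearMap.ker Q ≤ LinearMap.ker g := fun w hw => by
        have hw' : ∀ j, w j ∈ I := fun j =>
          (Submodule.Quotient.mk_eq_zero I).1 (congrFun (LinearMap.mem_ker.1 hw) j)
        rw [LinearMap.mem_ker]
        show e' n (Submodule.mkQ _ (φ w)) = 0
        rw [map_eq_zero_iff _ (e' n).injective, Submodule.mkQ_apply, Submodule.Quotient.mk_eq_zero,
          Fintype.linearCombination_apply]
        exact Submodule.sum_mem _ fun j _ => Submodule.smul_mem_smul (hw' j) Submodule.mem_top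
      have hQs : Function.Surjective Q := fun w => by
        choose w' hw' using fun j => Submodule.mkQ_surjective I (w j)
        exact ⟨w', funext hw'⟩
      let G : (Fin r → R ⧸ I) →ₗ[R] (Fin r → R ⧸ I) :=
        (Submodule.liftQ _ g hQ) ∘ₗ (LinearMap.quotKerEquivOfSurjective Q hQs).symm.toLinearMap
      have hG : ∀ w, G (Q w) = g w := fun w => by
        have : (LinearMap.quotKerEquivOfSurjective Q hQs).symm (Q w) = Submodule.Quotient.mk w :=
          (LinearEquiv.symm_apply_eq _).2 rfl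
        show Submodule.liftQ _ g hQ ((LinearMap.quotKerEquivOfSurjective Q hQs).symm (Q w)) = g w
        rw [this, Submodule.liftQ_apply]
      have hGs : Function.Surjective G := fun y => (hgs y).elim fun w hw => ⟨Q w, (hG w).trans hw⟩
      have hQv : Q v = 0 := OrzechProperty.injective_of_surjective_endomorphism G hGs (by
        rw [hG, map_zero]
        show e' n (Submodule.mkQ _ (φ v)) = 0
        rw [hv, map_zero, map_zero])
      exact (Submodule.Quotient.mk_eq_zero I).1 (congrFun hQv i)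
    have hinf : v i ∈ ⨅ k : ℕ, 𝔞 ^ k • (⊤ : Submodule R R) := by
      rw [Submodule.mem_iInf]
      rintro (_ | k)
      · simp
      · simpa using hmem k
    rw [Ideal.iInf_pow_smul_eq_bot_of_le_jacobson _ h𝔞, Submodule.mem_bot] at hinf
    exact hinf
  exact Module.Flat.of_linearEquiv (LinearEquiv.ofBijective φ ⟨hinj, hsurj⟩).symm

end Algebra

variable {X : Scheme.{u}}

/-- Flatness and rank at a point of the support from the thickenings. -/
theorem freeNear_of_thickenings [IsLocallyNoetherian X] {F : X.Modules} (hF : Coh.IsCoh F)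
    (J : X.IdealSheafData) (r : ℕ)
    (h : ∀ n : ℕ, FlatMod.IsFinLocFreeOfRank r ((Scheme.Modules.pullback (J ^ (n + 1)).subschemeι).obj F))
    {x : X} (hx : x ∈ J.support) : KFlatLib.FreeNear F x := by
  haveI : Coh.IsQCoh F := hF.1
  obtain ⟨U, hUa, hxU⟩ := QCohLib.exists_affine_nhd x
  let U' : X.affineOpens := ⟨U, hUa⟩
  let R := X.presheaf.stalk x
  let M := (DerSch.stalkFunctor X x).obj F
  let 𝔞 : Ideal R := (J.ideal U').map (X.presheaf.germ U x hxU).hom
  have key : ∀ n, ∃ (Z : Scheme.{u}) (i : Z ⟶ X) (_ : IsClosedImmersion i) (z : Z),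
      i z = x ∧ i.ker = J ^ (n + 1) ∧ FlatMod.IsFinLocFreeOfRank r ((Scheme.Modules.pullback i).obj F) :=
    fun n => by
    obtain ⟨z, hz⟩ : x ∈ Set.range (J ^ (n + 1)).subschemeι := by
      rw [Scheme.IdealSheafData.range_subschemeι, Scheme.IdealSheafData.support_pow_succ]
      exact hx
    exact ⟨_, _, inferInstance, z, hz, (J ^ (n + 1)).ker_subschemeι, h n⟩
  have hlev : ∀ n, Nonempty ((M ⧸ 𝔞 ^ (n + 1) • (⊤ : Submodule R M)) ≃ₗ[R] (Fin r → R ⧸ 𝔞 ^ (n + 1))) := by
    intro n
    obtain ⟨Z, i, _, z, rfl, hker, hr⟩ := key n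
    obtain ⟨W, e, hz, he⟩ := rankSet_of_rank hr z
    letI := (i.stalkMap z).hom.toAlgebra
    obtain ⟨L, -⟩ := CohCmpLib.exists_stalkPullEquiv i F z
    have hI : RingHom.ker (algebraMap (X.presheaf.stalk (i z)) (Z.presheaf.stalk z)) = 𝔞 ^ (n + 1) := by
      show RingHom.ker (i.stalkMap z).hom = _
      rw [FComplLib.ker_stalkMap i z U' hxU, hker, Scheme.IdealSheafData.ideal_pow, Pi.pow_apply, Ideal.map_pow]
    exact levelEquiv (i.stalkMap_surjective z) hI (L ≪≫ₗ (he.basis z hz).equivFun)
  have hproper : 𝔞 ≤ Ideal.jacobson ⊥ := by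
    obtain ⟨Z, i, _, z, rfl, hker, -⟩ := key 0
    have : RingHom.ker (i.stalkMap z).hom ≤ IsLocalRing.maximalIdeal _ :=
      IsLocalRing.le_maximalIdeal (RingHom.ker_ne_top _)
    rw [FComplLib.ker_stalkMap i z U' hxU, hker, zero_add, pow_one] at this
    exact this.trans (IsLocalRing.jacobson_eq_maximalIdeal ⊥ bot_ne_top).ge
  have : IsNoetherianRing R := by
    haveI := IsLocallyNoetherian.component_noetherian U'
    letI := X.presheaf.algebra_section_stalk (⟨x, hxU⟩ : U)
    haveI : IsLocalization.AtPrime R (hUa.primeIdealOf ⟨x, hxU⟩).asIdeal :=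
      hUa.isLocalization_stalk ⟨x, hxU⟩
    exact IsLocalization.isNoetherianRing (hUa.primeIdealOf ⟨x, hxU⟩).asIdeal.primeCompl R inferInstance
  haveI : Module.Finite R M := DepthLib.finite_stalk F hF.2 x
  exact Groth.Agent.S4652.freeNear_of_fp (QCohLib.isFP_of_isCoh F hF) x
    (@flat_of_levels R _ M _ _ _ ‹_› 𝔞 hproper r hlev)

/-- The rank at a point of the support. -/
theorem mem_rankSet_of_thickenings {F : X.Modules} (hfree : FlatMod.IsFinLocFree F) (J : X.IdealSheafData) (r : ℕ)
    (h : FlatMod.IsFinLocFreeOfRank r ((Scheme.Modules.pullback (J ^ 1).subschemeι).obj F))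
    {x : X} (hx : x ∈ J.support) : x ∈ RankSet F r := by
  obtain ⟨z, hz⟩ : x ∈ Set.range (J ^ (0 + 1)).subschemeι := by
    rw [Scheme.IdealSheafData.range_subschemeι, Scheme.IdealSheafData.support_pow_succ]
    exact hx
  subst hz
  exact (mem_rankSet_pullback_iff hfree _ z r).1 (rankSet_of_rank h z)

/-- Rank `r` everywhere gives local freeness of rank `r`. -/
theorem isFinLocFreeOfRank_of_rankSet {F : X.Modules} {r : ℕ} (h : ∀ x, x ∈ RankSet F r) :
    FlatMod.IsFinLocFreeOfRank r F := fun x => by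
  obtain ⟨U, e, hx, he⟩ := h x
  have h1 := CohCmpLib.isFrame_puSecLE U.ι he (V := ⊤) (by rw [Scheme.Opens.ι_preimage_self])
  obtain ⟨φ⟩ := CohCmpLib.exists_iso_freeMod_of_frame h1
  exact ⟨U, hx, ⟨(Scheme.Modules.restrictFunctorIsoPullback U.ι).app F ≪≫ φ⟩⟩

/-- An open subset of a quasi-compact scheme containing all closed points is everything. -/
theorem eq_univ_of_closedPoints [CompactSpace X] {T : Set X} (hT : IsOpen T)
    (h : ∀ x : X, IsClosed ({x} : Set X) → x ∈ T) (x : X) : x ∈ T := by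
  obtain ⟨y, hy, hyc⟩ := IsClosed.exists_closed_singleton (isClosed_closure (s := {x})) ⟨x, subset_closure rfl⟩
  exact hT.stableUnderGeneralization (specializes_iff_mem_closure.2 hy) (h y hyc)

theorem isOpen_freeNear (F : X.Modules) : IsOpen {x | KFlatLib.FreeNear F x} :=
  isOpen_iff_forall_mem_open.2 fun _ ⟨U, hx, hU⟩ => ⟨U, fun _ hy => ⟨U, hy, hU⟩, U.2, hx⟩

theorem closedPoint_mem_support {A : Type u} [CommRing A] {I : Ideal A} [IsAdicComplete I A]
    (f : X ⟶ Spec (CommRingCat.of A)) [UniversallyClosed f] {x : X} (hx : IsClosed ({x} : Set X)) :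
    x ∈ ((FSch.idealSpec A I).comap f).support := by
  rw [Scheme.IdealSheafData.support_comap]
  show f x ∈ ((FSch.idealSpec A I).support : Set (Spec (CommRingCat.of A)))
  have hy : IsClosed ({f x} : Set (PrimeSpectrum A)) := by
    have := f.isClosedMap _ hx
    rw [Set.image_singleton] at this
    exact this
  have hm := (PrimeSpectrum.isClosed_singleton_iff_isMaximal _).1 hy
  rw [FSch.idealSpec, Scheme.Hom.support_ker]
  refine subset_closure ?_
  have hle : I ≤ (f x).asIdeal := (IsAdicComplete.le_jacobson_bot I).trans (sInf_le ⟨bot_le, hm⟩)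
  have : (f x).asIdeal ≤ (f x).asIdeal := le_rfl
  exact (_root_.range_comap_of_surjective _ (Ideal.Quotient.mk I) Ideal.Quotient.mk_surjective).ge
    (by simpa [Ideal.mk_ker] using hle)

end FComplFreeLib
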